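import Groth.Agent.EtQuotLib.Ring
import Groth.Agent.QuotLib.Props
import Mathlib.AlgebraicGeometry.Morphisms.Flat
import Mathlib.AlgebraicGeometry.Morphisms.FormallyUnramified
import Mathlib.AlgebraicGeometry.Morphisms.FiniteType

/-! # Quotients of unramified schemes are flat -/

noncomputable section

universe u

open CategoryTheory AlgebraicGeometry TopologicalSpace

namespace EtQuotLib

variable {X X' Y : Scheme.{u}} {G : Type u} [Group G] {ρ : G →* Aut X} {p : X ⟶ X'}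

/-- The sections over an affine piece form a flat algebra over the invariants. -/
theorem flat_app [Finite G] (hp : SGA1.IsQuot ρ p) (q : X' ⟶ Y) [LocallyOfFiniteType (p ≫ q)]
    [FormallyUnramified (p ≫ q)] {V : X'.Opens} {W : Y.Opens} (hV : IsAffineOpen V) (hW : IsAffineOpen W)
    (hVW : V ≤ q ⁻¹ᵁ W) : (p.app V).hom.Flat := by
  classical
  haveI := hp.affine
  let U : X.Opens := p ⁻¹ᵁ V
  have hU : IsAffineOpen U := hV.preimage p
  have hUW : U ≤ (p ≫ q) ⁻¹ᵁ W := fun x hx => hVW hx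
  have hle : ∀ g : G, U ≤ (ρ g).hom ⁻¹ᵁ U := fun g => SGA1.preimage_le_of_inv ρ p hp.inv g V
  let σ : G → (Γ(X, U) ⟶ Γ(X, U)) := fun g => (ρ g).hom.appLE U U (hle g)
  have hσmul : ∀ g h, σ (g * h) = σ g ≫ σ h := fun g h => by
    show (ρ (g * h)).hom.appLE U U _ = _
    simp only [σ]
    rw [Scheme.Hom.appLE_comp_appLE]
    congr 1
    rw [map_mul]; rfl
  have hσone : σ 1 = 𝟙 _ := by
    show (ρ 1).hom.appLE U U _ = _
    simp only [map_one]
    show (𝟙 X : X ⟶ X).appLE U U _ = _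
    rw [Scheme.Hom.appLE, Scheme.Hom.id_app]
    erw [Category.id_comp]
    exact X.presheaf.map_id _
  letI : MulSemiringAction G Γ(X, U) :=
    { smul := fun g s => (σ g⁻¹).hom s
      one_smul := fun s => by show (σ 1⁻¹).hom s = s; rw [inv_one, hσone]; rfl
      mul_smul := fun g h s => by
        show (σ (g * h)⁻¹).hom s = (σ g⁻¹).hom ((σ h⁻¹).hom s)
        rw [mul_inv_rev, hσmul]; rfl
      smul_zero := fun g => map_zero _
      smul_add := fun g => map_add _
      smul_one := fun g => map_one _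
      smul_mul := fun g => map_mul _ }
  letI : Algebra Γ(X', V) Γ(X, U) := (p.app V).hom.toAlgebra
  haveI : SMulCommClass G Γ(X', V) Γ(X, U) := ⟨fun g b a => by
    show (σ g⁻¹).hom (algebraMap Γ(X', V) Γ(X, U) b * a) = algebraMap Γ(X', V) Γ(X, U) b * (σ g⁻¹).hom a
    rw [map_mul]
    congr 1
    exact ((hp.range_iff V ((p.app V).hom b)).1 ⟨b, rfl⟩ g⁻¹)⟩
  haveI : Algebra.IsInvariant Γ(X', V) Γ(X, U) G := ⟨fun s hs => by
    obtain ⟨b, hb⟩ := (hp.range_iff V s).2 fun g => by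
      have := hs g⁻¹
      change (σ g⁻¹⁻¹).hom s = s at this
      rwa [inv_inv] at this
    exact ⟨b, hb⟩⟩
  letI : Algebra Γ(Y, W) Γ(X, U) := ((p ≫ q).appLE W U hUW).hom.toAlgebra
  haveI : Algebra.FiniteType Γ(Y, W) Γ(X, U) :=
    HasRingHomProperty.appLE @LocallyOfFiniteType (p ≫ q) inferInstance ⟨W, hW⟩ ⟨U, hU⟩ hUW
  haveI : Algebra.FormallyUnramified Γ(Y, W) Γ(X, U) :=
    HasRingHomProperty.appLE @FormallyUnramified (p ≫ q) inferInstance ⟨W, hW⟩ ⟨U, hU⟩ hUW
  haveI : SMulCommClass G Γ(Y, W) Γ(X, U) := ⟨fun g c a => by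
    show (σ g⁻¹).hom (((p ≫ q).appLE W U hUW).hom c * a) = ((p ≫ q).appLE W U hUW).hom c * (σ g⁻¹).hom a
    rw [map_mul]
    congr 1
    rw [← CommRingCat.comp_apply]
    congr 2
    simp only [σ]
    rw [Scheme.Hom.appLE_comp_appLE]
    congr 1
    rw [← Category.assoc, hp.inv]⟩
  haveI : Module.Projective Γ(X', V) Γ(X, U) :=
    projective (C := Γ(Y, W)) (G := G) (hp.injective V)
  exact RingHom.flat_algebraMap_iff.2 (inferInstance : Module.Flat Γ(X', V) Γ(X, U))

theorem flat_of_isQuot [Finite G] (hp : SGA1.IsQuot ρ p) (q : X' ⟶ Y) [LocallyOfFiniteType (p ≫ q)]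
    [FormallyUnramified (p ≫ q)] : Flat p := by
  haveI := hp.affine
  let ι := {VW : X'.affineOpens × Y.affineOpens // VW.1.1 ≤ q ⁻¹ᵁ VW.2.1}
  have hcov : ⨆ i : ι, i.1.1.1 = ⊤ := by
    refine top_unique fun y _ => ?_
    obtain ⟨W, hW, hyW, -⟩ := QuotLib.exists_affine (show q y ∈ (⊤ : Y.Opens) from trivial)
    obtain ⟨V, hV, hyV, hVW⟩ := QuotLib.exists_affine (show y ∈ q ⁻¹ᵁ W from hyW)
    exact Opens.mem_iSup.2 ⟨⟨(⟨V, hV⟩, ⟨W, hW⟩), hVW⟩, hyV⟩
  haveI : IsZariskiLocalAtTarget (@Flat : MorphismProperty Scheme.{u}) :=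
    @HasRingHomProperty.instIsZariskiLocalAtTarget _ _ inferInstance
  refine IsZariskiLocalAtTarget.of_iSup_eq_top (P := (@Flat : MorphismProperty Scheme.{u}))
    (fun i : ι => i.1.1.1) hcov fun i => ?_
  haveI : IsAffine (i.1.1.1 : Scheme.{u}) := i.1.1.2
  haveI : IsAffine (p ⁻¹ᵁ i.1.1.1 : Scheme.{u}) := i.1.1.2.preimage p
  rw [HasRingHomProperty.iff_of_isAffine (P := (@Flat : MorphismProperty Scheme.{u}))]
  have h := flat_app hp q i.1.1.2 i.1.2.2 i.2
  have key : ∀ U' : X'.Opens, U' = i.1.1.1 → (p.app U').hom.Flat := by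
    rintro _ rfl; exact h
  rw [morphismRestrict_appTop]
  exact RingHom.Flat.comp (key _ (Scheme.Opens.ι_image_top _))
    (RingHom.Flat.of_bijective (ConcreteCategory.bijective_of_isIso _))

end EtQuotLib
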