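import Groth.Agent.TorsorQuotLib.Ring
import Mathlib.RingTheory.Unramified.Basic
import Mathlib.RingTheory.Kaehler.Basic
import Mathlib.RingTheory.Ideal.IdempotentFG
import Mathlib.Algebra.BigOperators.Ring.Finset

/-!
# Invariants of a finite group acting on an unramified algebra: the algebra is projective
-/

universe u

open TensorProduct

namespace EtQuotLib

variable {C A B G : Type u} [CommRing C] [CommRing A] [CommRing B] [Group G]
  [MulSemiringAction G A] [Algebra C A] [Algebra B A]

variable [SMulCommClass G C A]

/-- `a ⊗ b ↦ a * g • b`. -/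
noncomputable def mu (g : G) : A ⊗[C] A →ₐ[C] A :=
  Algebra.TensorProduct.lift (AlgHom.id C A) (MulSemiringAction.toAlgHom C A g) fun _ _ => Commute.all _ _

theorem mu_tmul (g : G) (a b : A) : mu (C := C) g (a ⊗ₜ b) = a * g • b := by simp [mu]

/-- The fixed locus of `g` is open and closed. -/
theorem exists_idempotent [Algebra.FormallyUnramified C A] [Algebra.FiniteType C A] (g : G) :
    ∃ e : A, e * e = e ∧ Ideal.span (Set.range fun a : A => a - g • a) = Ideal.span {e} := by
  obtain ⟨e, he, hI⟩ := (Ideal.isIdempotentElem_iff_of_fg _ (KaehlerDifferential.ideal_fg C A)).1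
    ((Ideal.cotangent_subsingleton_iff _).1 (inferInstanceAs <| Subsingleton (Ω[A⁄C])))
  refine ⟨mu g e, by rw [← map_mul, he.eq], ?_⟩
  have h1 := congrArg (Ideal.map (mu (C := C) g).toRingHom) (KaehlerDifferential.span_range_eq_ideal C A)
  rw [hI, Ideal.map_span, ← Set.range_comp] at h1
  have h2 : ((mu (C := C) g).toRingHom ∘ fun s : A => (1 : A) ⊗ₜ[C] s - s ⊗ₜ[C] (1 : A)) =
      fun a => -(a - g • a) := by
    funext a
    simp [mu_tmul, neg_sub]
  rw [h2, Ideal.submodule_span_eq, Ideal.map_span, Set.image_singleton] at h1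
  change Ideal.span (Set.range fun a : A => -(a - g • a)) = Ideal.span {mu g e} at h1
  rw [← h1]
  apply le_antisymm <;>
    · rw [Ideal.span_le]
      rintro _ ⟨a, rfl⟩
      first
        | exact neg_mem (Ideal.subset_span ⟨a, rfl⟩)
        | (show a - g • a ∈ _; rw [← neg_neg (a - g • a)]; exact neg_mem (Ideal.subset_span ⟨a, rfl⟩))

/-- An unramified algebra with a finite group action is projective over the invariants. -/
theorem projective [Algebra.IsInvariant B A G] [Finite G] [SMulCommClass G B A] [Algebra.FormallyUnramified C A] [Algebra.FiniteType C A]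
    (hinj : Function.Injective (algebraMap B A)) : Module.Projective B A := by
  classical
  haveI := Fintype.ofFinite G
  choose e he hI using exists_idempotent (C := C) (A := A) (G := G)
  let ε : Finset G → A := fun S => (∏ g ∈ S, e g) * ∏ g ∈ Finset.univ \ S, (1 - e g)
  have hεsum : ∑ S : Finset G, ε S = 1 := by
    rw [← Finset.powerset_univ, ← Finset.prod_add e (fun g => 1 - e g)]
    simp
  have hone : ∀ g, (1 - e g) * (1 - e g) = 1 - e g := fun g => by linear_combination he g
  have hεε : ∀ S, ε S * ε S = ε S := fun S => by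
    show ((∏ g ∈ S, e g) * ∏ g ∈ Finset.univ \ S, (1 - e g)) * _ = _
    rw [mul_mul_mul_comm, ← Finset.prod_mul_distrib, ← Finset.prod_mul_distrib]
    simp only [he, hone]
    rfl
  have hin : ∀ S g, g ∈ S → ε S ∈ Ideal.span (Set.range fun a : A => a - g • a) := fun S g hg => by
    rw [hI g]
    exact Ideal.mul_mem_right _ _ (Ideal.mem_span_singleton.2 (Finset.dvd_prod_of_mem e hg))
  have hout : ∀ S g, g ∉ S → ∀ a : A, ε S * g • a = ε S * a := fun S g hg a => by
    have h0 : ε S * e g = 0 := by
      show (_ * ∏ g ∈ Finset.univ \ S, (1 - e g)) * e g = 0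
      rw [mul_assoc, ← Finset.prod_erase_mul (Finset.univ \ S) (fun g => 1 - e g)
        (Finset.mem_sdiff.2 ⟨Finset.mem_univ g, hg⟩), mul_assoc _ (1 - e g), sub_mul, one_mul, he,
        sub_self, mul_zero, mul_zero]
    have h1 : a - g • a ∈ Ideal.span {e g} := hI g ▸ Ideal.subset_span ⟨a, rfl⟩
    obtain ⟨c, hc⟩ := Ideal.mem_span_singleton.1 h1
    rw [eq_comm, ← sub_eq_zero, ← mul_sub, hc, ← mul_assoc, h0, zero_mul]
  have key : ∀ S : Finset G, ∃ (n : ℕ) (x : Fin n → A) (t : Fin n → (A →ₗ[B] B)),
      ∀ a, ∑ i, t i a • x i = ε S * a := by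
    intro S
    let J : Subgroup G :=
      { carrier := {g | ∀ a : A, ε S * g • a = ε S * a}
        one_mem' := fun a => by rw [one_smul]
        mul_mem' := fun {g h} hg hh a => by rw [mul_smul, hg, hh]
        inv_mem' := fun {g} hg a => by rw [← hg, smul_inv_smul] }
    have hε : ∀ h ∈ J, ∀ a : A, h • (ε S * a) = ε S * a := fun h hh a => by
      have h1 : ε S * h • ε S = ε S := by rw [hh, hεε]
      have h2 : h • ε S * ε S = h • ε S := by
        have h3 : ε S * h⁻¹ • ε S = ε S := by rw [J.inv_mem hh, hεε]
        have := congrArg (h • ·) h3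
        simpa only [smul_mul', smul_inv_smul] using this
      have h4 : h • ε S = ε S := by rw [← h2, mul_comm, h1]
      rw [smul_mul', h4, hh]
    have hsep : ∀ g : G, g ∉ J → ∃ E : A ⊗[B] A,
        TorsorQuotLib.phi (G := G) E (1 : G) = ε S ∧ ε S * TorsorQuotLib.phi (G := G) E g = 0 := by
      intro g hg
      have hgS : g ∈ S := by_contra fun h => hg (hout S g h)
      obtain ⟨c, hc⟩ := Finsupp.mem_span_range_iff_exists_finsupp.1 (hin S g hgS)
      have hsum : c.sum (fun a r => r * a) - c.sum (fun a r => r * g • a) = ε S := by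
        rw [← hc, Finsupp.sum, Finsupp.sum, ← Finset.sum_sub_distrib, Finsupp.sum]
        exact Finset.sum_congr rfl fun a _ => by rw [smul_eq_mul, mul_sub]
      refine ⟨c.sum (fun a r => r ⊗ₜ[B] a) - (c.sum fun a r => r * g • a) ⊗ₜ[B] 1, ?_, ?_⟩
      · rw [map_sub, Pi.sub_apply, Finsupp.sum, map_sum, Finset.sum_apply, TorsorQuotLib.phi_tmul,
          smul_one, mul_one]
        simpa [TorsorQuotLib.phi_tmul, Finsupp.sum] using hsum
      · rw [map_sub, Pi.sub_apply, Finsupp.sum, map_sum, Finset.sum_apply, TorsorQuotLib.phi_tmul,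
          smul_one, mul_one]
        simp [TorsorQuotLib.phi_tmul, Finsupp.sum]
    choose E hE1 hEg using hsep
    let F : A ⊗[B] A := (ε S ⊗ₜ[B] (1 : A)) * ∏ g : {g : G // g ∉ J}, E g.1 g.2
    have hF1 : TorsorQuotLib.phi (G := G) F (1 : G) = ε S := by
      simp only [F, map_mul, Pi.mul_apply, map_prod, Finset.prod_apply, TorsorQuotLib.phi_tmul,
        smul_one, mul_one, hE1]
      rw [Finset.prod_const]
      generalize (Finset.univ : Finset {g : G // g ∉ J}).card = k
      induction k with
      | zero => rw [pow_zero, mul_one]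
      | succ k ih => rw [pow_succ, ← mul_assoc, ih, hεε]
    have hFg : ∀ g ∉ J, TorsorQuotLib.phi (G := G) F g = 0 := fun g hg => by
      simp only [F, map_mul, Pi.mul_apply, map_prod, Finset.prod_apply, TorsorQuotLib.phi_tmul,
        smul_one, mul_one]
      rw [← Finset.mul_prod_erase Finset.univ _ (Finset.mem_univ (⟨g, hg⟩ : {g : G // g ∉ J})),
        ← mul_assoc, hEg, zero_mul]
    obtain ⟨P, hP⟩ := TensorProduct.exists_finset F
    let q := P.equivFin.symm
    let x : Fin P.card → A := fun i => (q i).1.1
    let y : Fin P.card → A := fun i => (q i).1.2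
    have hxy : ∀ g : G, TorsorQuotLib.phi (G := G) F g = ∑ i, x i * g • y i := fun g => by
      rw [hP, map_sum, Finset.sum_apply, ← Finset.sum_coe_sort, ← q.sum_comp]
      exact Finset.sum_congr rfl fun i _ => TorsorQuotLib.phi_tmul _ _ _
    -- the transfer from `J` to `G`
    let τ : A → G ⧸ J → A := fun a => Quotient.lift (fun g : G => g • (ε S * a)) fun g h hgh => by
      obtain ⟨j, hj, rfl⟩ : ∃ j ∈ J, h = g * j :=
        ⟨g⁻¹ * h, QuotientGroup.leftRel_apply.1 hgh, (mul_inv_cancel_left g h).symm⟩
      show g • (ε S * a) = (g * j) • (ε S * a)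
      rw [mul_smul, hε j hj]
    have hτmk : ∀ (a : A) (g : G), τ a (g : G ⧸ J) = g • (ε S * a) := fun a g => rfl
    haveI : Fintype (G ⧸ J) := Fintype.ofFinite _
    have htr : ∀ a : A, ∀ g : G, g • (∑ k, τ a k) = ∑ k, τ a k := fun a g => by
      rw [Finset.smul_sum]
      refine Fintype.sum_equiv (MulAction.toPerm g) _ _ fun k => ?_
      induction k using QuotientGroup.induction_on with
      | H k =>
        show g • τ a (k : G ⧸ J) = τ a ((g * k : G) : G ⧸ J)
        rw [hτmk, hτmk, mul_smul]
    choose T hT using fun a : A => Algebra.IsInvariant.isInvariant (A := B) (∑ k, τ a k) (htr a)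
    let T' : A →ₗ[B] B :=
      { toFun := T
        map_add' := fun a b => hinj (by
          simp only [map_add, hT, ← Finset.sum_add_distrib]
          refine Finset.sum_congr rfl fun k _ => ?_
          induction k using QuotientGroup.induction_on with
          | H k => rw [hτmk, hτmk, hτmk, mul_add, smul_add])
        map_smul' := fun b a => hinj (by
          simp only [RingHom.id_apply, smul_eq_mul, map_mul, hT, Finset.mul_sum]
          refine Finset.sum_congr rfl fun k _ => ?_
          induction k using QuotientGroup.induction_on with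
          | H k => rw [hτmk, hτmk, mul_smul_comm, smul_comm, Algebra.smul_def]) }
    refine ⟨P.card, x, fun i => T'.comp (LinearMap.mulLeft B (y i)), fun a => ?_⟩
    calc ∑ i, T (y i * a) • x i = ∑ k, ∑ i, x i * τ (y i * a) k := by
          rw [Finset.sum_comm]
          refine Finset.sum_congr rfl fun i _ => ?_
          rw [Algebra.smul_def, hT, Finset.sum_mul]
          exact Finset.sum_congr rfl fun k _ => mul_comm _ _
      _ = ∑ i, x i * τ (y i * a) ((1 : G) : G ⧸ J) := by
          refine Finset.sum_eq_single _ (fun k _ hk => ?_) (by simp)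
          induction k using QuotientGroup.induction_on with
          | H g =>
            have hg : g ∉ J := fun hg => hk (QuotientGroup.eq.2 (by simpa using hg))
            have : ∀ i, x i * τ (y i * a) (g : G ⧸ J) = x i * g • y i * (g • (ε S) * g • a) := fun i => by
              simp only [hτmk, smul_mul']
              ring
            simp only [this]
            rw [← Finset.sum_mul, ← hxy, hFg g hg, zero_mul]
      _ = ε S * a := by
          have : ∀ i, x i * τ (y i * a) ((1 : G) : G ⧸ J) = x i * (1 : G) • y i * (ε S * a) := fun i => by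
            rw [hτmk, one_smul, one_smul]
            ring
          simp only [this]
          rw [← Finset.sum_mul, ← hxy, hF1, ← mul_assoc, hεε]
  choose n x t ht using key
  refine Module.Projective.of_split (P := A) (M := (Σ S : Finset G, Fin (n S)) → B)
    (LinearMap.pi fun i : Σ S : Finset G, Fin (n S) => t i.1 i.2)
    (Fintype.linearCombination B fun i : Σ S : Finset G, Fin (n S) => x i.1 i.2) (LinearMap.ext fun a => ?_)
  simp only [LinearMap.comp_apply, Fintype.linearCombination_apply, LinearMap.pi_apply, LinearMap.id_apply]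
  rw [Fintype.sum_sigma]
  simp only [ht, ← Finset.sum_mul, hεsum, one_mul]

end EtQuotLib
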